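import Mathlib.AlgebraicGeometry.Sites.SmallAffineZariski
import Mathlib.AlgebraicGeometry.Morphisms.Finite
import Mathlib.AlgebraicGeometry.Morphisms.IsIso
import Mathlib.AlgebraicGeometry.Properties

/-!
# Gluing the spectra of a quasi-coherent algebra given as a presheaf on all opens
-/

noncomputable section

universe u

open CategoryTheory CategoryTheory.Limits AlgebraicGeometry Opposite TopologicalSpace

namespace Groth.Agent.Lib.AlgGlue.Basic

open Scheme Scheme.AffineZariskiSite

variable {Y : Scheme.{u}} {F : Y.Opensᵒᵖ ⥤ CommRingCat.{u}} (α : Y.presheaf ⟶ F)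

/-- The localisation condition. -/
def IsQC : Prop :=
  ∀ (U : Y.Opens), IsAffineOpen U → ∀ f : Γ(Y, U),
    letI := (F.map (homOfLE (Y.basicOpen_le f)).op).hom.toAlgebra
    IsLocalization.Away (α.app (op U) f) (F.obj (op (Y.basicOpen f)))

variable {α} (H : IsQC α)

include H in
theorem coequifibered : ((toOpensFunctor Y).op.whiskerLeft α).Coequifibered :=
  coequifibered_iff_forall_isLocalizationAway.mpr fun U r => H U.1 U.2 r

/-- The gluing data. -/
def data := relativeGluingData (coequifibered H)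

instance : ((data H).functor ⋙ Scheme.forget).IsLocallyDirected :=
  Cover.RelativeGluingData.instIsLocallyDirectedI₀CompFunctorForgetOfIsThin ..

/-- The relative spectrum. -/
def spec : Scheme.{u} := (data H).glued

/-- The projection. -/
def proj : spec H ⟶ Y := (data H).toBase

/-- The chart over an affine open. -/
def chart (U : Y.affineOpens) : Spec (F.obj (op U.1)) ⟶ spec H := (data H).cover.f U

instance isOpenImmersion_chart (U : Y.affineOpens) : IsOpenImmersion (chart H U) :=
  (data H).cover.map_prop U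

theorem chart_proj (U : Y.affineOpens) :
    chart H U ≫ proj H = Spec.map (α.app (op U.1)) ≫ U.2.fromSpec :=
  colimit.ι_desc _ _

theorem chart_w_basic {U : Y.affineOpens} (f : Γ(Y, U.1)) :
    Spec.map (F.map (homOfLE (Y.basicOpen_le f)).op) ≫ chart H U =
      chart H ⟨Y.basicOpen f, U.2.basicOpen f⟩ :=
  colimit.w (data H).functor (homOfLE (AffineZariskiSite.basicOpen_le (U : Y.AffineZariskiSite) f))

theorem chart_w {U V : Y.affineOpens} (h : V.1 ≤ U.1) :
    Spec.map (F.map (homOfLE h).op) ≫ chart H U = chart H V := by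
  let y : Spec (F.obj (op V.1)) → Y := fun x => V.2.fromSpec (Spec.map (α.app (op V.1)) x)
  have hy : ∀ x, y x ∈ V.1 := fun x => by
    have hx : y x ∈ Set.range V.2.fromSpec := ⟨_, rfl⟩
    rwa [V.2.range_fromSpec] at hx
  choose f g hfg hyf using fun x => exists_basicOpen_le_affine_inter V.2 U.2 (y x) ⟨hy x, h (hy x)⟩
  have hrange : ∀ x, x ∈ Set.range (Spec.map (F.map (homOfLE (Y.basicOpen_le (f x))).op)) := fun x => by
    letI := (F.map (homOfLE (Y.basicOpen_le (f x))).op).hom.toAlgebra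
    haveI := H V.1 V.2 (f x)
    have hr : Set.range (Spec.map (F.map (homOfLE (Y.basicOpen_le (f x))).op)) =
        ((PrimeSpectrum.basicOpen (α.app (op V.1) (f x)) : Opens (PrimeSpectrum (F.obj (op V.1)))) :
          Set (PrimeSpectrum (F.obj (op V.1)))) :=
      PrimeSpectrum.localization_away_comap_range (F.obj (op (Y.basicOpen (f x)))) (α.app (op V.1) (f x))
    rw [hr]
    have h1 : (Spec.map (α.app (op V.1)) x) ∈ PrimeSpectrum.basicOpen (f x) := by
      rw [← V.2.fromSpec_preimage_basicOpen]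
      exact hyf x
    exact h1
  haveI : ∀ x, IsOpenImmersion (Spec.map (F.map (homOfLE (Y.basicOpen_le (f x))).op)) := fun x => by
    letI := (F.map (homOfLE (Y.basicOpen_le (f x))).op).hom.toAlgebra
    haveI := H V.1 V.2 (f x)
    exact IsOpenImmersion.of_isLocalization (α.app (op V.1) (f x))
  let C : (Spec (F.obj (op V.1))).OpenCover :=
    Scheme.Cover.mkOfCovers _ _ (fun x => Spec.map (F.map (homOfLE (Y.basicOpen_le (f x))).op))
      (fun x => ⟨x, hrange x⟩) inferInstance
  refine C.hom_ext _ _ fun x => ?_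
  change Spec.map (F.map (homOfLE (Y.basicOpen_le (f x))).op) ≫ _ =
    Spec.map (F.map (homOfLE (Y.basicOpen_le (f x))).op) ≫ _
  rw [chart_w_basic H (f x), ← Spec.map_comp_assoc, ← F.map_comp]
  have hU : Y.basicOpen (f x) ≤ U.1 := (Y.basicOpen_le _).trans h
  change Spec.map (F.map (homOfLE hU).op) ≫ chart H U = _
  have key : ∀ (W : Y.Opens) (hW : IsAffineOpen W) (hWU : W ≤ U.1), W = Y.basicOpen (g x) →
      Spec.map (F.map (homOfLE hWU).op) ≫ chart H U = chart H ⟨W, hW⟩ := by
    rintro W hW hWU rfl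
    exact chart_w_basic H (g x)
  exact key _ _ _ (hfg x)

theorem preimage_proj (U : Y.affineOpens) : proj H ⁻¹ᵁ U.1 = (chart H U).opensRange := by
  simpa using! (data H).toBase_preimage_eq_opensRange_ι U

theorem isAffineOpen_preimage {U : Y.Opens} (hU : IsAffineOpen U) : IsAffineOpen (proj H ⁻¹ᵁ U) := by
  rw [preimage_proj H ⟨U, hU⟩]
  exact isAffineOpen_opensRange _

instance isAffineHom_proj : IsAffineHom (proj H) :=
  ⟨fun _ hU => isAffineOpen_preimage H hU⟩

theorem top_le (U : Y.affineOpens) : (⊤ : (Spec (F.obj (op U.1))).Opens) ≤ chart H U ⁻¹ᵁ proj H ⁻¹ᵁ U.1 := by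
  rw [preimage_proj H U, Scheme.Hom.preimage_opensRange]

/-- Sections over the preimage of an affine open. -/
def rho (U : Y.affineOpens) : Γ(spec H, proj H ⁻¹ᵁ U.1) ⟶ F.obj (op U.1) :=
  (chart H U).appLE _ ⊤ (top_le H U) ≫ (Scheme.ΓSpecIso _).hom

instance isIso_rho (U : Y.affineOpens) : IsIso (rho H U) := by
  haveI : IsIso ((chart H U).app (proj H ⁻¹ᵁ U.1)) :=
    Scheme.Hom.isIso_app _ _ (le_of_eq (preimage_proj H U))
  rw [rho, Scheme.Hom.appLE]
  haveI : IsIso ((Spec (F.obj (op U.1))).presheaf.map (homOfLE (top_le H U)).op) := by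
    have he : (homOfLE (top_le H U)) = eqToHom (le_antisymm (top_le H U) le_top) := Subsingleton.elim _ _
    rw [he]
    infer_instance
  infer_instance

theorem rho_nat {U V : Y.affineOpens} (h : V.1 ≤ U.1) :
    (spec H).presheaf.map (homOfLE ((proj H).preimage_mono h)).op ≫ rho H V =
      rho H U ≫ F.map (homOfLE h).op := by
  rw [rho, rho, ← Category.assoc, Scheme.Hom.map_appLE, Category.assoc,
    ← Scheme.ΓSpecIso_naturality, ← Category.assoc]
  congr 1
  have e : (⊤ : (Spec (F.obj (op V.1))).Opens) ≤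
      (Spec.map (F.map (homOfLE h).op) ≫ chart H U) ⁻¹ᵁ proj H ⁻¹ᵁ U.1 := fun x _ =>
    (top_le H U) (x := Spec.map (F.map (homOfLE h).op) x) trivial
  have h1 : (Spec.map (F.map (homOfLE h).op) ≫ chart H U).appLE (proj H ⁻¹ᵁ U.1) ⊤ e =
      (chart H U).appLE _ ⊤ (top_le H U) ≫ (Spec.map (F.map (homOfLE h).op)).appLE ⊤ ⊤ (fun _ _ => trivial) :=
    (Scheme.Hom.appLE_comp_appLE _ _ _ _ _ _ _).symm
  have h2 : (Spec.map (F.map (homOfLE h).op)).appLE ⊤ ⊤ (fun _ _ => trivial) =
      (Spec.map (F.map (homOfLE h).op)).appTop := by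
    rw [Scheme.Hom.appLE]
    simp
  rw [← h2, ← h1]
  congr 1
  exact (chart_w H h).symm

theorem app_rho (U : Y.affineOpens) : (proj H).app U.1 ≫ rho H U = α.app (op U.1) := by
  rw [rho, ← Category.assoc]
  have e : (⊤ : (Spec (F.obj (op U.1))).Opens) ≤ (chart H U ≫ proj H) ⁻¹ᵁ U.1 := top_le H U
  have h1 : (chart H U ≫ proj H).appLE U.1 ⊤ e = (proj H).app U.1 ≫ (chart H U).appLE _ ⊤ (top_le H U) := by
    rw [Scheme.Hom.app_eq_appLE, Scheme.Hom.appLE_comp_appLE]
  rw [← h1]
  have e' : (⊤ : (Spec (F.obj (op U.1))).Opens) ≤ (Spec.map (α.app (op U.1)) ≫ U.2.fromSpec) ⁻¹ᵁ U.1 := by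
    rw [← chart_proj H U]; exact e
  have h2 : (chart H U ≫ proj H).appLE U.1 ⊤ e = (Spec.map (α.app (op U.1)) ≫ U.2.fromSpec).appLE U.1 ⊤ e' := by
    congr 1
    exact chart_proj H U
  rw [h2]
  have e'' : (⊤ : (Spec Γ(Y, U.1)).Opens) ≤ U.2.fromSpec ⁻¹ᵁ U.1 := by rw [U.2.fromSpec_preimage_self]
  have h3 : (Spec.map (α.app (op U.1)) ≫ U.2.fromSpec).appLE U.1 ⊤ e' =
      U.2.fromSpec.appLE U.1 ⊤ e'' ≫ (Spec.map (α.app (op U.1))).appLE ⊤ ⊤ (fun _ _ => trivial) :=
    (Scheme.Hom.appLE_comp_appLE _ _ _ _ _ _ _).symm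
  rw [h3]
  have h4 : U.2.fromSpec.appLE U.1 ⊤ e'' = (Scheme.ΓSpecIso Γ(Y, U.1)).inv := by
    rw [Scheme.Hom.appLE, U.2.fromSpec_app_self, Category.assoc, ← Functor.map_comp]
    convert Category.comp_id _
    exact (Spec Γ(Y, U.1)).presheaf.map_id _
  have h5 : (Spec.map (α.app (op U.1))).appLE ⊤ ⊤ (fun _ _ => trivial) =
      (Spec.map (α.app (op U.1))).appTop := by
    rw [Scheme.Hom.appLE]
    simp
  rw [h4, h5, Category.assoc, Scheme.ΓSpecIso_naturality, Iso.inv_hom_id_assoc]

theorem isReduced_spec (hred : ∀ U : Y.affineOpens, _root_.IsReduced (F.obj (op U.1))) : IsReduced (spec H) :=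
  haveI : ∀ i, IsReduced ((data H).cover.X i) := fun i => by
    haveI := hred i
    change IsReduced (Spec (F.obj (op i.1)))
    infer_instance
  IsReduced.of_openCover _ (data H).cover

theorem isFinite_proj (hfin : ∀ U : Y.affineOpens, (α.app (op U.1)).hom.Finite) : IsFinite (proj H) where
  finite_app U hU := by
    have h := app_rho H ⟨U, hU⟩
    have he : (proj H).app U = α.app (op U) ≫ inv (rho H ⟨U, hU⟩) := by
      rw [← h, Category.assoc, IsIso.hom_inv_id, Category.comp_id]
    rw [he, CommRingCat.hom_comp]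
    exact (RingHom.Finite.of_surjective _
      (ConcreteCategory.bijective_of_isIso (inv (rho H ⟨U, hU⟩))).2).comp (hfin ⟨U, hU⟩)

/-! ### The comparison on all opens -/

theorem exists_theta (U : Y.Opens) (x : F.obj (op U)) :
    ∃! t : Γ(spec H, proj H ⁻¹ᵁ U), ∀ (V : Y.affineOpens) (hV : V.1 ≤ U),
      rho H V ((spec H).presheaf.map (homOfLE ((proj H).preimage_mono hV)).op t) = F.map (homOfLE hV).op x := by
  classical
  let I := {V : Y.affineOpens // V.1 ≤ U}
  let sf : ∀ V : I, Γ(spec H, proj H ⁻¹ᵁ V.1.1) := fun V => inv (rho H V.1) (F.map (homOfLE V.2).op x)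
  have hsf : ∀ V : I, rho H V.1 (sf V) = F.map (homOfLE V.2).op x := fun V => by
    rw [← ConcreteCategory.comp_apply, IsIso.inv_hom_id]; rfl
  have hcov : proj H ⁻¹ᵁ U ≤ ⨆ V : I, proj H ⁻¹ᵁ V.1.1 := fun z hz => by
    obtain ⟨V, hV, hzV, hVU⟩ := exists_isAffineOpen_mem_and_subset (X := Y) (x := proj H z) (U := U) hz
    exact Opens.mem_iSup.2 ⟨⟨⟨V, hV⟩, hVU⟩, hzV⟩
  have key : ∀ (V : I) (W : Y.affineOpens) (hW : W.1 ≤ V.1.1),
      rho H W ((spec H).presheaf.map (homOfLE ((proj H).preimage_mono hW)).op (sf V)) =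
        F.map (homOfLE (hW.trans V.2)).op x := fun V W hW => by
    rw [← ConcreteCategory.comp_apply, rho_nat H hW, ConcreteCategory.comp_apply, hsf,
      ← ConcreteCategory.comp_apply, ← F.map_comp]
    rfl
  have hc : TopCat.Presheaf.IsCompatible (spec H).presheaf (fun V : I => proj H ⁻¹ᵁ V.1.1) sf := fun V V' => by
    let J := {W : Y.affineOpens // W.1 ≤ V.1.1 ⊓ V'.1.1}
    refine (spec H).sheaf.eq_of_locally_eq' (fun W : J => proj H ⁻¹ᵁ W.1.1) _
      (fun W => homOfLE ((proj H).preimage_mono W.2)) (fun z hz => ?_) _ _ fun W => ?_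
    · obtain ⟨W, hW, hzW, hWle⟩ := exists_isAffineOpen_mem_and_subset (X := Y) (x := proj H z)
        (U := V.1.1 ⊓ V'.1.1) hz
      exact Opens.mem_iSup.2 ⟨⟨⟨W, hW⟩, hWle⟩, hzW⟩
    · apply (ConcreteCategory.bijective_of_isIso (rho H W.1)).1
      refine Eq.trans (congrArg (rho H W.1) ?_) ((key V W.1 (W.2.trans inf_le_left)).trans
        ((key V' W.1 (W.2.trans inf_le_right)).symm.trans (congrArg (rho H W.1) ?_)))
      · exact ((ConcreteCategory.comp_apply _ _ _).symm.trans
          (ConcreteCategory.congr_hom ((spec H).presheaf.map_comp _ _).symm _))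
      · exact Eq.symm ((ConcreteCategory.comp_apply _ _ _).symm.trans
          (ConcreteCategory.congr_hom ((spec H).presheaf.map_comp _ _).symm _))
  obtain ⟨t, ht, huniq⟩ := (spec H).sheaf.existsUnique_gluing' (fun V : I => proj H ⁻¹ᵁ V.1.1)
    (proj H ⁻¹ᵁ U) (fun V => homOfLE ((proj H).preimage_mono V.2)) hcov sf hc
  refine ⟨t, fun V hV => ?_, fun t' ht' => huniq t' fun V => ?_⟩
  · exact (congrArg (rho H V) (ht ⟨V, hV⟩)).trans (hsf ⟨V, hV⟩)
  · exact (ConcreteCategory.bijective_of_isIso (rho H V.1)).1 ((ht' V.1 V.2).trans (hsf V).symm)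

/-- The comparison map on sections. -/
def theta (U : Y.Opens) : F.obj (op U) →+* Γ(spec H, proj H ⁻¹ᵁ U) where
  toFun x := (exists_theta H U x).choose
  map_one' := ((exists_theta H U 1).choose_spec.2 1 fun V hV => by simp).symm
  map_zero' := ((exists_theta H U 0).choose_spec.2 0 fun V hV => by simp).symm
  map_mul' x y := ((exists_theta H U (x * y)).choose_spec.2 _ fun V hV => by
    simp only [map_mul, (exists_theta H U x).choose_spec.1 V hV, (exists_theta H U y).choose_spec.1 V hV]).symm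
  map_add' x y := ((exists_theta H U (x + y)).choose_spec.2 _ fun V hV => by
    simp only [map_add, (exists_theta H U x).choose_spec.1 V hV, (exists_theta H U y).choose_spec.1 V hV]).symm

theorem rho_theta {U : Y.Opens} (x : F.obj (op U)) (V : Y.affineOpens) (hV : V.1 ≤ U) :
    rho H V ((spec H).presheaf.map (homOfLE ((proj H).preimage_mono hV)).op (theta H U x)) =
      F.map (homOfLE hV).op x :=
  (exists_theta H U x).choose_spec.1 V hV

theorem theta_eq {U : Y.Opens} (x : F.obj (op U)) (t : Γ(spec H, proj H ⁻¹ᵁ U))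
    (ht : ∀ (V : Y.affineOpens) (hV : V.1 ≤ U),
      rho H V ((spec H).presheaf.map (homOfLE ((proj H).preimage_mono hV)).op t) = F.map (homOfLE hV).op x) :
    theta H U x = t :=
  ((exists_theta H U x).choose_spec.2 t ht).symm

theorem theta_app (U : Y.Opens) (a : Γ(Y, U)) : theta H U (α.app (op U) a) = (proj H).app U a := by
  refine theta_eq H _ _ fun V hV => ?_
  have h1 := ConcreteCategory.congr_hom ((proj H).naturality (homOfLE hV).op) a
  have h2 := ConcreteCategory.congr_hom (α.naturality (homOfLE hV).op) a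
  simp only [ConcreteCategory.comp_apply] at h1 h2
  refine (congrArg (rho H V) h1.symm).trans ?_
  exact ((ConcreteCategory.comp_apply _ _ _).symm.trans (ConcreteCategory.congr_hom (app_rho H V) _)).trans h2

theorem theta_res {U U' : Y.Opens} (h : U' ≤ U) (x : F.obj (op U)) :
    (spec H).presheaf.map (homOfLE ((proj H).preimage_mono h)).op (theta H U x) =
      theta H U' (F.map (homOfLE h).op x) := by
  refine (theta_eq H _ _ fun V hV => ?_).symm
  refine ((congrArg (rho H V) ?_).trans (rho_theta H x V (hV.trans h))).trans ?_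
  · rw [← ConcreteCategory.comp_apply, ← Functor.map_comp]; rfl
  · rw [← ConcreteCategory.comp_apply, ← Functor.map_comp]; rfl

theorem theta_bijective {U : Y.Opens} (hU : IsAffineOpen U) : Function.Bijective (theta H U) := by
  have h : ∀ x, rho H ⟨U, hU⟩ (theta H U x) = x := fun x => by
    have := rho_theta H x ⟨U, hU⟩ le_rfl
    simpa using this
  have hb := ConcreteCategory.bijective_of_isIso (rho H ⟨U, hU⟩)
  exact ⟨fun a b hab => by rw [← h a, ← h b, hab], fun t => ⟨rho H ⟨U, hU⟩ t, hb.1 (h _)⟩⟩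

/-- The projection is an isomorphism over a union of affine opens where the algebra is trivial. -/
theorem isIso_morphismRestrict (W : Y.Opens) {ι : Type*} (U : ι → Y.affineOpens)
    (hU : ⨆ i, (U i).1 = W) (hbij : ∀ i, Function.Bijective (α.app (op (U i).1))) :
    IsIso (proj H ∣_ W) := by
  have hiso : ∀ i, IsIso (proj H ∣_ (U i).1) := fun i => by
    haveI : IsAffine ((U i).1 : Scheme.{u}) := (U i).2
    haveI : IsAffine ((proj H ⁻¹ᵁ (U i).1 : (spec H).Opens) : Scheme.{u}) := isAffineOpen_preimage H (U i).2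
    haveI : IsIso ((proj H).app (U i).1) := by
      haveI : IsIso (α.app (op (U i).1)) := (ConcreteCategory.isIso_iff_bijective _).2 (hbij i)
      have h := app_rho H (U i)
      rw [show (proj H).app (U i).1 = α.app (op (U i).1) ≫ inv (rho H (U i)) from (IsIso.eq_comp_inv _).2 h]
      infer_instance
    have h2 : IsIso (proj H ∣_ (U i).1).appTop := by
      have he : (U i).1.ι ''ᵁ ⊤ = (U i).1 := Scheme.Opens.ι_image_top _
      haveI h3 : IsIso ((proj H).app ((U i).1.ι ''ᵁ ⊤)) := by
        have key : ∀ T : Y.Opens, T = (U i).1 → IsIso ((proj H).app T) := fun T hT => by subst hT; assumption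
        exact key _ he
      rw [Scheme.Hom.appTop, morphismRestrict_app]
      refine @IsIso.comp_isIso _ _ _ _ _ _ _ h3 ?_
      exact @Functor.map_isIso _ _ _ _ _ _ _ _ (isIso_op _)
    exact (HasAffineProperty.iff_of_isAffine (P := MorphismProperty.isomorphisms Scheme.{u})).2 ⟨‹_›, h2⟩
  refine (IsZariskiLocalAtTarget.iff_of_iSup_eq_top (P := MorphismProperty.isomorphisms Scheme.{u})
    (fun i => W.ι ⁻¹ᵁ (U i).1) ?_).2 fun i => ?_
  · rw [← Scheme.Hom.preimage_iSup, hU, Scheme.Opens.ι_preimage_self]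
  · have hle : (U i).1 ≤ W := hU ▸ le_iSup (fun j => (U j).1) i
    refine (MorphismProperty.arrow_mk_iso_iff (MorphismProperty.isomorphisms Scheme.{u})
      (morphismRestrictRestrict (proj H) W (W.ι ⁻¹ᵁ (U i).1))).2 ?_
    have he : W.ι ''ᵁ (W.ι ⁻¹ᵁ (U i).1) = (U i).1 := by
      rw [Scheme.Hom.image_preimage_eq_opensRange_inf, Scheme.Opens.opensRange_ι, inf_eq_right.2 hle]
    rw [he]
    exact hiso i

end Groth.Agent.Lib.AlgGlue.Basic
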